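import Groth.Agent.L22.AffineDim
import Groth.Agent.L22.SchemeDim
import Mathlib.LinearAlgebra.Matrix.Determinant.Basic
import Mathlib.LinearAlgebra.Matrix.NonsingularInverse
import Mathlib.RingTheory.AlgebraicIndependent.Basic
import Mathlib.RingTheory.LocalRing.ResidueField.Basic
import Mathlib.RingTheory.Spectrum.Prime.Topology

/-!
# Dimension of the closure of a family of rational points over a local ring
-/

set_option autoImplicit false
set_option linter.style.haveILetI false
set_option backward.isDefEq.respectTransparency.types false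
set_option backward.isDefEq.respectTransparency false
universe u

open PrimeSpectrum

namespace Groth.L02.SecDim

/-- Vectors independent in the residue field are independent in every field over the local ring. -/
theorem linearIndependent_map {R k K : Type u} [CommRing R] [IsLocalRing R] [Field k] [Field K] (χ : R →+* k)
    (hχ : Function.Surjective χ) (φ : R →+* K) {J : Type u} {F : Type*} [Fintype F] (v : F → J → R)
    (h : LinearIndependent k fun t j => χ (v t j)) : LinearIndependent K fun t j => φ (v t j) := by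
  classical
  haveI : IsLocalHom χ := IsLocalHom.of_surjective χ hχ
  rw [Fintype.linearIndependent_iff] at h ⊢
  have hspan : Submodule.span k (Set.range fun j t => χ (v t j)) = (⊤ : Submodule k (F → k)) := by
    by_contra hne
    obtain ⟨g, hg, hgle⟩ := Submodule.exists_le_ker_of_lt_top _ (lt_top_iff_ne_top.2 hne)
    refine hg (LinearMap.pi_ext' fun t => ?_)
    ext
    have h0 := h (fun t => g (Pi.single t 1)) (by
      funext j
      have h1 : g (fun t => χ (v t j)) = 0 := hgle (Submodule.subset_span ⟨j, rfl⟩)
      rw [pi_eq_sum_univ' (fun t => χ (v t j)), map_sum] at h1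
      simp only [map_smul, smul_eq_mul] at h1
      simpa [mul_comm] using h1) t
    simpa using h0
  have hc : ∀ t₀ : F, ∃ c : J →₀ k, (c.sum fun j a => a • fun t => χ (v t j)) = Pi.single t₀ (1 : k) := fun t₀ =>
    Finsupp.mem_span_range_iff_exists_finsupp.1 (hspan ▸ Submodule.mem_top)
  choose c hc using hc
  choose l hl using fun (t₀ : F) (j : J) => hχ (c t₀ j)
  let E : Matrix F F R := fun t₀ t => ∑ j ∈ (c t₀).support, l t₀ j * v t j
  have hE : E.map χ = 1 := by
    ext t₀ t
    have := congrFun (hc t₀) t
    simp only [Finsupp.sum, Finset.sum_apply, Pi.smul_apply, smul_eq_mul] at this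
    simp only [Matrix.map_apply, E, map_sum, map_mul, hl]
    rw [this, Matrix.one_apply, Pi.single_apply]
    exact if_congr (eq_comm) rfl rfl
  have hdet : IsUnit E.det := by
    apply isUnit_of_map_unit χ
    rw [RingHom.map_det, RingHom.mapMatrix_apply, hE, Matrix.det_one]
    exact isUnit_one
  intro x hx
  have hmv : (E.map φ).mulVec x = 0 := by
    funext t₀
    simp only [Matrix.mulVec, dotProduct, Matrix.map_apply, E, map_sum, map_mul, Pi.zero_apply, Finset.sum_mul]
    rw [Finset.sum_comm]
    refine Finset.sum_eq_zero fun j _ => ?_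
    have := congrFun hx j
    simp only [Finset.sum_apply, Pi.smul_apply, smul_eq_mul, Pi.zero_apply] at this
    calc ∑ t, φ (l t₀ j) * φ (v t j) * x t = φ (l t₀ j) * ∑ t, x t * φ (v t j) := by
          rw [Finset.mul_sum]; exact Finset.sum_congr rfl fun t _ => by ring
      _ = 0 := by rw [this, mul_zero]
  have hu : IsUnit (E.map φ).det := by
    have := hdet.map φ
    rwa [RingHom.map_det, RingHom.mapMatrix_apply] at this
  exact fun t => congrFun (Matrix.eq_zero_of_mulVec_eq_zero hu.ne_zero hmv) t

/-- Algebraically independent elements of an affine algebra bound its dimension from below. -/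
theorem le_ringKrullDim {k : Type u} [Field k] {Q : Type u} [CommRing Q] [Algebra k Q] [Algebra.FiniteType k Q]
    {e : ℕ} (x : Fin e → Q) (hx : AlgebraicIndependent k x) : (e : WithBot ℕ∞) ≤ ringKrullDim Q := by
  let f : MvPolynomial (Fin e) k →ₐ[k] Q := MvPolynomial.aeval x
  have hf : Function.Injective f := hx
  have hmin : (⊥ : Ideal (MvPolynomial (Fin e) k)) ∈
      ((⊥ : Ideal Q).comap f.toRingHom).minimalPrimes := by
    have hk : (⊥ : Ideal Q).comap f.toRingHom = ⊥ := (RingHom.injective_iff_ker_eq_bot _).1 hf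
    rw [hk]
    exact ⟨⟨Ideal.isPrime_bot, le_rfl⟩, fun _ _ _ => bot_le⟩
  obtain ⟨P, hP, hPc⟩ := Ideal.exists_minimalPrimes_comap_eq f.toRingHom ⊥ hmin
  haveI : P.IsPrime := hP.1.1
  let g : MvPolynomial (Fin e) k →ₐ[k] Q ⧸ P := (Ideal.Quotient.mkₐ k P).comp f
  have hg : Function.Injective g := by
    rw [injective_iff_map_eq_zero]
    intro p hp
    have h1 : f p ∈ P := Ideal.Quotient.eq_zero_iff_mem.1 hp
    have : p ∈ P.comap f.toRingHom := h1
    rwa [hPc, Ideal.mem_bot] at this
  obtain ⟨d, -, -, -, hd, htr⟩ := Groth.L22.AffineDim.exists_normalization k (Q ⧸ P)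
  have hgi : AlgebraicIndependent k (fun i => g (MvPolynomial.X i)) :=
    (MvPolynomial.algebraicIndependent_X (Fin e) k).map' (f := g) hg
  have hle := hgi.lift_cardinalMk_le_trdeg
  rw [htr] at hle
  simp at hle
  calc (e : WithBot ℕ∞) ≤ (d : WithBot ℕ∞) := by exact_mod_cast hle
    _ = ringKrullDim (Q ⧸ P) := hd.symm
    _ ≤ ringKrullDim Q := ringKrullDim_quotient_le P

variable {A B R : Type u} [CommRing A] [CommRing B] [CommRing R] (ψ : A →+* B) {J : Type u} (ev : J → B →+* R)

/-- The values of the elements of `B` at the points. -/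
def values {k : Type u} [Field k] (χ : R →+* k) : B →+* (J → k) := Pi.ringHom fun j => χ.comp (ev j)

/-- The algebra of functions on the points. -/
def funs {k : Type u} [Field k] (χ : R →+* k) : Subalgebra k (J → k) :=
  Algebra.adjoin k (Set.range (values ev χ))

theorem finiteType_funs [Algebra A B] [Algebra.FiniteType A B] {k : Type u} [Field k] (χ : R →+* k) (α : A →+* k)
    (hα : ∀ j a, χ (ev j (algebraMap A B a)) = α a) : Algebra.FiniteType k (funs ev χ) := by
  obtain ⟨S, hS⟩ := (inferInstance : Algebra.FiniteType A B).out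
  rw [← Subalgebra.fg_iff_finiteType]
  classical
  refine ⟨S.image (values ev χ), le_antisymm (Algebra.adjoin_mono ?_) (Algebra.adjoin_le ?_)⟩
  · intro x hx
    simp only [Finset.coe_image, Set.mem_image] at hx
    obtain ⟨b, -, rfl⟩ := hx
    exact ⟨b, rfl⟩
  · rintro _ ⟨b, rfl⟩
    have hb : b ∈ Algebra.adjoin A (S : Set B) := hS ▸ Algebra.mem_top
    induction hb using Algebra.adjoin_induction with
    | mem x hx => exact Algebra.subset_adjoin (by simpa using ⟨x, hx, rfl⟩)
    | algebraMap a =>
      have : values ev χ (algebraMap A B a) = algebraMap k (J → k) (α a) := funext fun j => hα j a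
      rw [this]
      exact Subalgebra.algebraMap_mem _ _
    | add x y _ _ hx hy => rw [map_add]; exact Subalgebra.add_mem _ hx hy
    | mul x y _ _ hx hy => rw [map_mul]; exact Subalgebra.mul_mem _ hx hy

/-- The functions over the local ring lift the functions over the residue field. -/
theorem exists_lift {k : Type u} [Field k] (χ : R →+* k) (hχ : Function.Surjective χ) {y : J → k}
    (hy : y ∈ funs ev χ) : ∃ Y : J → R, Y ∈ Algebra.adjoin R (Set.range (Pi.ringHom ev)) ∧ ∀ j, χ (Y j) = y j := by
  induction hy using Algebra.adjoin_induction with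
  | mem x hx =>
    obtain ⟨b, rfl⟩ := hx
    exact ⟨Pi.ringHom ev b, Algebra.subset_adjoin ⟨b, rfl⟩, fun j => rfl⟩
  | algebraMap c =>
    obtain ⟨r, rfl⟩ := hχ c
    exact ⟨algebraMap R (J → R) r, Subalgebra.algebraMap_mem _ _, fun j => rfl⟩
  | add x y _ _ hx hy =>
    obtain ⟨X, hX, hX'⟩ := hx
    obtain ⟨Y, hY, hY'⟩ := hy
    exact ⟨X + Y, Subalgebra.add_mem _ hX hY, fun j => by simp [hX', hY']⟩
  | mul x y _ _ hx hy =>
    obtain ⟨X, hX, hX'⟩ := hx
    obtain ⟨Y, hY, hY'⟩ := hy
    exact ⟨X * Y, Subalgebra.mul_mem _ hX hY, fun j => by simp [hX', hY']⟩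

theorem mem_funs {K : Type u} [Field K] (φ : R →+* K) {Y : J → R}
    (hY : Y ∈ Algebra.adjoin R (Set.range (Pi.ringHom ev))) : (fun j => φ (Y j)) ∈ funs ev φ := by
  induction hY using Algebra.adjoin_induction with
  | mem x hx =>
    obtain ⟨b, rfl⟩ := hx
    exact Algebra.subset_adjoin ⟨b, rfl⟩
  | algebraMap c => exact Subalgebra.algebraMap_mem (funs ev φ) (φ c)
  | add x y _ _ hx hy =>
    simp only [Pi.add_apply, map_add]
    exact Subalgebra.add_mem _ hx hy
  | mul x y _ _ hx hy =>
    simp only [Pi.mul_apply, map_mul]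
    exact Subalgebra.mul_mem _ hx hy

/-- The dimension of the closure of the points does not go up under specialization. -/
theorem ringKrullDim_funs_le [IsLocalRing R] {k K : Type u} [Field k] [Field K] (χ : R →+* k)
    (hχ : Function.Surjective χ) (φ : R →+* K) [Algebra.FiniteType k (funs ev χ)]
    [Algebra.FiniteType K (funs ev φ)] : ringKrullDim (funs ev χ) ≤ ringKrullDim (funs ev φ) := by
  rcases subsingleton_or_nontrivial (funs ev χ) with h | h
  · rw [ringKrullDim_eq_bot_of_subsingleton]; exact bot_le
  obtain ⟨e, g, hinj, hfin⟩ := exists_finite_inj_algHom_of_fg k (funs ev χ)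
  have hdim : ringKrullDim (funs ev χ) = (e : WithBot ℕ∞) := by
    letI := g.toRingHom.toAlgebra
    haveI : Algebra.IsIntegral (MvPolynomial (Fin e) k) (funs ev χ) := ⟨hfin.to_isIntegral⟩
    rw [Groth.L22.AffineDim.ringKrullDim_eq_of_isIntegral (R := MvPolynomial (Fin e) k) hinj,
      MvPolynomial.ringKrullDim_of_isNoetherianRing, ringKrullDim_eq_zero_of_field]
    simp
  rw [hdim]
  choose Y hY hYy using fun t : Fin e => exists_lift ev χ hχ (g (MvPolynomial.X t)).2
  let z : Fin e → funs ev φ := fun t => ⟨fun j => φ (Y t j), mem_funs ev φ (hY t)⟩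
  refine le_ringKrullDim (k := K) z ?_
  rw [algebraicIndependent_iff]
  intro p hp
  have key : ∀ (L : Type u) [Field L] (θ : R →+* L) (q : MvPolynomial (Fin e) L) (j : J),
      MvPolynomial.aeval (fun t => θ (Y t j)) q =
        ∑ m ∈ q.support, q.coeff m * θ (∏ t ∈ m.support, Y t j ^ m t) := by
    intro L _ θ q j
    rw [MvPolynomial.aeval_def, MvPolynomial.eval₂_eq]
    refine Finset.sum_congr rfl fun m _ => ?_
    simp [map_prod, map_pow]
  have hli : LinearIndependent k (fun (m : p.support) j => χ (∏ t ∈ m.1.support, Y t j ^ m.1 t)) := by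
    rw [Fintype.linearIndependent_iff]
    intro c hc m
    classical
    let q : MvPolynomial (Fin e) k := ∑ m : p.support, MvPolynomial.monomial m.1 (c m)
    have hq : q = 0 := by
      apply hinj
      rw [map_zero]
      apply Subtype.ext
      funext j
      have hsum := congrFun hc j
      simp only [Finset.sum_apply, Pi.smul_apply, smul_eq_mul, Pi.zero_apply] at hsum
      rw [ZeroMemClass.coe_zero, Pi.zero_apply, ← hsum]
      rw [map_sum, AddSubmonoidClass.coe_finsetSum, Finset.sum_apply]
      refine Finset.sum_congr rfl fun m _ => ?_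
      rw [show g = MvPolynomial.aeval (fun t => g (MvPolynomial.X t)) from MvPolynomial.aeval_unique g]
      rw [MvPolynomial.aeval_monomial]
      simp [Finsupp.prod, map_prod, map_pow, hYy]
    have := congrArg (MvPolynomial.coeff m.1) hq
    rw [MvPolynomial.coeff_sum, MvPolynomial.coeff_zero] at this
    rw [← this, Finset.sum_eq_single m (fun m' _ hne => by
      rw [MvPolynomial.coeff_monomial, if_neg fun h => hne (Subtype.ext h)]) (by simp)]
    rw [MvPolynomial.coeff_monomial, if_pos rfl]
  have hli' := Fintype.linearIndependent_iff.1 (linearIndependent_map χ hχ φ _ hli) (fun m => p.coeff m.1) (by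
    funext j
    have hj := congrFun (congrArg Subtype.val hp) j
    simp only [Finset.sum_apply, Pi.smul_apply, smul_eq_mul, Pi.zero_apply]
    rw [Finset.sum_coe_sort p.support (fun m => p.coeff m * φ (∏ t ∈ m.support, Y t j ^ m t)), ← key]
    have e2 : MvPolynomial.aeval (fun t => φ (Y t j)) p =
        ((Pi.evalAlgHom K (fun _ : J => K) j).comp (funs ev φ).val) (MvPolynomial.aeval z p) := by
      rw [MvPolynomial.comp_aeval_apply]; rfl
    rw [e2]
    exact hj)
  ext m
  by_cases hm : m ∈ p.support
  · simpa using hli' ⟨m, hm⟩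
  · simpa [MvPolynomial.mem_support_iff] using hm

section Fibre

variable [Algebra A B] {k : Type u} [Field k] (χ : R →+* k) (α : A →+* k)

/-- The spectrum of the functions on the points is their closure in the fibre. -/
theorem exists_homeo (hα : ∀ j a, χ (ev j (algebraMap A B a)) = α a)
    (hfrac : ∀ c : k, ∃ a s, α s ≠ 0 ∧ c * α s = α a) :
    ∃ i : PrimeSpectrum (funs ev χ) → PrimeSpectrum B, Topology.IsEmbedding i ∧
      Set.range i = {P | RingHom.ker (values ev χ) ≤ P.asIdeal ∧ P.asIdeal.comap (algebraMap A B) = RingHom.ker α} := by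
  let π : B →+* funs ev χ :=
    (values ev χ).codRestrict (funs ev χ).toSubring fun b => Algebra.subset_adjoin ⟨b, rfl⟩
  have hker : RingHom.ker π = RingHom.ker (values ev χ) := by
    ext b
    simp only [RingHom.mem_ker]
    exact ⟨fun h => congrArg Subtype.val h, fun h => Subtype.ext h⟩
  let B' := B ⧸ RingHom.ker (values ev χ)
  let π' : B' →+* funs ev χ := Ideal.Quotient.lift _ π (fun b hb => by rwa [← RingHom.mem_ker, hker])
  letI : Algebra B' (funs ev χ) := π'.toAlgebra
  haveI := RingHom.ker_isPrime α
  let M : Submonoid B' :=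
    (RingHom.ker α).primeCompl.map ((Ideal.Quotient.mk (RingHom.ker (values ev χ))).comp (algebraMap A B))
  haveI : IsLocalization M (funs ev χ) := by
    constructor
    constructor
    · rintro ⟨_, a, ha, rfl⟩
      show IsUnit (π (algebraMap A B a))
      have ha' : α a ≠ 0 := ha
      have e : π (algebraMap A B a) = algebraMap k (funs ev χ) (α a) := Subtype.ext (funext fun j => hα j a)
      rw [e]
      exact (isUnit_iff_ne_zero.2 ha').map _
    · intro z
      suffices H : ∀ y ∈ funs ev χ, ∃ b s, α s ≠ 0 ∧ ∀ j, y j * α s = χ (ev j b) by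
        obtain ⟨b, s, hs, h⟩ := H z.1 z.2
        refine ⟨⟨Ideal.Quotient.mk _ b, ⟨_, s, hs, rfl⟩⟩, Subtype.ext (funext fun j => ?_)⟩
        show z.1 j * χ (ev j (algebraMap A B s)) = χ (ev j b)
        rw [hα, h]
      intro y hy
      induction hy using Algebra.adjoin_induction with
      | mem x hx =>
        obtain ⟨b, rfl⟩ := hx
        exact ⟨b, 1, by simp, fun j => by rw [map_one, mul_one]; rfl⟩
      | algebraMap c =>
        obtain ⟨a, s, hs, h⟩ := hfrac c
        exact ⟨algebraMap A B a, s, hs, fun j => by rw [hα]; exact h⟩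
      | add x y _ _ hx hy =>
        obtain ⟨b, s, hs, h⟩ := hx
        obtain ⟨b', s', hs', h'⟩ := hy
        refine ⟨b * algebraMap A B s' + b' * algebraMap A B s, s * s', by rw [map_mul]; exact mul_ne_zero hs hs',
          fun j => ?_⟩
        simp only [map_add, map_mul, Pi.add_apply, hα, ← h, ← h']
        ring
      | mul x y _ _ hx hy =>
        obtain ⟨b, s, hs, h⟩ := hx
        obtain ⟨b', s', hs', h'⟩ := hy
        refine ⟨b * b', s * s', by rw [map_mul]; exact mul_ne_zero hs hs', fun j => ?_⟩
        simp only [map_mul, Pi.mul_apply, ← h, ← h']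
        ring
    · intro x y hxy
      obtain ⟨b, rfl⟩ := Ideal.Quotient.mk_surjective x
      obtain ⟨b', rfl⟩ := Ideal.Quotient.mk_surjective y
      refine ⟨1, ?_⟩
      have : π b = π b' := hxy
      rw [Submonoid.coe_one, one_mul, one_mul]
      exact Ideal.Quotient.eq.2 (by rw [← hker, RingHom.mem_ker, map_sub, this, sub_self])
  have e1 : Topology.IsEmbedding (PrimeSpectrum.comap (Ideal.Quotient.mk (RingHom.ker (values ev χ)))) :=
    (PrimeSpectrum.isClosedEmbedding_comap_of_surjective (R := B) B' _ Ideal.Quotient.mk_surjective).isEmbedding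
  have e2 : Topology.IsEmbedding (PrimeSpectrum.comap (algebraMap B' (funs ev χ))) :=
    PrimeSpectrum.localization_comap_isEmbedding (R := B') (funs ev χ) M
  refine ⟨fun q => PrimeSpectrum.comap (Ideal.Quotient.mk (RingHom.ker (values ev χ)))
      (PrimeSpectrum.comap (algebraMap B' (funs ev χ)) q),
    e1.comp e2, ?_⟩
  rw [show (fun q => PrimeSpectrum.comap (Ideal.Quotient.mk (RingHom.ker (values ev χ)))
      (PrimeSpectrum.comap (algebraMap B' (funs ev χ)) q)) =
    PrimeSpectrum.comap (Ideal.Quotient.mk (RingHom.ker (values ev χ))) ∘ PrimeSpectrum.comap (algebraMap B' (funs ev χ))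
      from rfl, Set.range_comp, PrimeSpectrum.localization_comap_range (R := B') (funs ev χ) M]
  ext P
  constructor
  · rintro ⟨P', hP', rfl⟩
    refine ⟨fun b hb => ?_, ?_⟩
    · show Ideal.Quotient.mk (RingHom.ker (values ev χ)) b ∈ P'.asIdeal
      rw [Ideal.Quotient.eq_zero_iff_mem.2 hb]; exact zero_mem _
    ext a
    constructor
    · intro ha
      by_contra hne
      exact Set.disjoint_left.1 hP' ⟨a, hne, rfl⟩ ha
    · intro ha
      show Ideal.Quotient.mk (RingHom.ker (values ev χ)) (algebraMap A B a) ∈ P'.asIdeal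
      rw [Ideal.Quotient.eq_zero_iff_mem.2 (RingHom.mem_ker.2 (funext fun j => (hα j a).trans (RingHom.mem_ker.1 ha)))]
      exact zero_mem _
  · rintro ⟨hk, hc⟩
    have hP : P ∈ Set.range (PrimeSpectrum.comap (Ideal.Quotient.mk (RingHom.ker (values ev χ)))) := by
      rw [range_comap_of_surjective _ _ Ideal.Quotient.mk_surjective, Ideal.mk_ker]
      exact hk
    obtain ⟨P', rfl⟩ := hP
    refine ⟨P', Set.disjoint_left.2 ?_, rfl⟩
    rintro _ ⟨a, ha, rfl⟩ hmem
    exact ha (hc.le hmem)

end Fibre

end Groth.L02.SecDim
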