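import Groth.Agent.L02.SecDim.Algebra
import Groth.Agent.L06.Dim
import Mathlib.AlgebraicGeometry.ResidueField
import Mathlib.AlgebraicGeometry.Morphisms.FiniteType

/-!
# Dimension of closures of sections in fibres
-/

set_option autoImplicit false
set_option linter.style.haveILetI false
set_option backward.isDefEq.respectTransparency.types false
set_option backward.isDefEq.respectTransparency false
universe u

open CategoryTheory AlgebraicGeometry Topology TopologicalSpace

namespace Groth.L02.SecDim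

variable {S Y : Scheme.{u}} (f : Y ⟶ S) {ι : Type u} (a : ι → (S ⟶ Y)) (ha : ∀ i, a i ≫ f = 𝟙 S)
  {V : S.Opens} (hV : IsAffineOpen V) {U : Y.Opens} (hU : IsAffineOpen U) (hUV : U ≤ f ⁻¹ᵁ V)
  {s₀ : S} (hs₀ : s₀ ∈ V)

/-- The sections meeting the open at the special point. -/
abbrev Idx (U : Y.Opens) (s₀ : S) : Type u := {i : ι // a i s₀ ∈ U}

theorem range_subset (i : Idx a U s₀) : Set.range (S.fromSpecStalk s₀ ≫ a i.1) ⊆ Set.range hU.fromSpec := by
  rw [hU.range_fromSpec]
  rintro _ ⟨x, rfl⟩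
  rw [Scheme.Hom.comp_apply]
  have hx : S.fromSpecStalk s₀ x ⤳ s₀ := by
    have : S.fromSpecStalk s₀ x ∈ Set.range (S.fromSpecStalk s₀) := ⟨x, rfl⟩
    rwa [Scheme.range_fromSpecStalk] at this
  exact (hx.map (a i.1).continuous).mem_open U.isOpen i.2

/-- Evaluation of functions at a section, in the local ring. -/
noncomputable def ev (i : Idx a U s₀) : Γ(Y, U) ⟶ S.presheaf.stalk s₀ :=
  Spec.preimage (IsOpenImmersion.lift hU.fromSpec (S.fromSpecStalk s₀ ≫ a i.1) (range_subset a hU i))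

theorem specMap_ev (i : Idx a U s₀) : Spec.map (ev a hU i) ≫ hU.fromSpec = S.fromSpecStalk s₀ ≫ a i.1 := by
  rw [ev, Spec.map_preimage, IsOpenImmersion.lift_fac]

include ha hV in
theorem appLE_ev (i : Idx a U s₀) : f.appLE V U hUV ≫ ev a hU i = S.presheaf.germ V s₀ hs₀ := by
  apply Spec.map_injective
  rw [← cancel_mono hV.fromSpec, Spec.map_comp, Category.assoc, IsAffineOpen.SpecMap_appLE_fromSpec f hV hU hUV,
    ← Category.assoc, specMap_ev, Category.assoc, ha, Category.comp_id,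
    ← hV.fromSpecStalk_eq_fromSpecStalk hs₀]
  rfl

/-- The map from the local ring to the residue field at a generization. -/
noncomputable def chi {s : S} (h : s ⤳ s₀) : S.presheaf.stalk s₀ ⟶ S.residueField s :=
  S.presheaf.stalkSpecializes h ≫ S.residue s

theorem specMap_chi {s : S} (h : s ⤳ s₀) : Spec.map (chi h) ≫ S.fromSpecStalk s₀ = S.fromSpecResidueField s := by
  rw [chi, Spec.map_comp, Category.assoc, Scheme.SpecMap_stalkSpecializes_fromSpecStalk]
  rfl

theorem surjective_chi : Function.Surjective (chi (s₀ := s₀) (specializes_refl s₀)).hom := by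
  intro c
  obtain ⟨z, rfl⟩ := S.residue_surjective s₀ c
  exact ⟨z, by simp [chi]⟩

theorem germ_chi {s : S} (h : s ⤳ s₀) :
    S.presheaf.germ V s₀ hs₀ ≫ chi h = S.presheaf.germ V s (h.mem_open V.isOpen hs₀) ≫ S.residue s := by
  rw [chi, ← Category.assoc, TopCat.Presheaf.germ_stalkSpecializes]

/-- The base ring at a point. -/
noncomputable abbrev alpha {s : S} (h : s ⤳ s₀) : Γ(S, V) →+* S.residueField s :=
  (S.presheaf.germ V s (h.mem_open V.isOpen hs₀) ≫ S.residue s).hom

include hV in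
theorem frac {s : S} (h : s ⤳ s₀) (c : S.residueField s) :
    ∃ b t, alpha hs₀ h t ≠ 0 ∧ c * alpha hs₀ h t = alpha hs₀ h b := by
  have hsV := h.mem_open V.isOpen hs₀
  obtain ⟨z, rfl⟩ := S.residue_surjective s c
  letI := S.presheaf.algebra_section_stalk ⟨s, hsV⟩
  haveI := hV.isLocalization_stalk ⟨s, hsV⟩
  obtain ⟨⟨b, t⟩, ht⟩ := IsLocalization.surj (hV.primeIdealOf ⟨s, hsV⟩).asIdeal.primeCompl z
  have hu := IsLocalization.map_units (S.presheaf.stalk s) t
  refine ⟨b, t.1, (hu.map (S.residue s).hom).ne_zero, ?_⟩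
  show S.residue s z * S.residue s (S.presheaf.germ V s hsV t.1) = S.residue s (S.presheaf.germ V s hsV b)
  rw [← map_mul]
  exact congrArg _ ht

include hV in
theorem fromSpec_ker_alpha {s : S} (h : s ⤳ s₀) :
    hV.fromSpec ⟨RingHom.ker (alpha hs₀ h), RingHom.ker_isPrime _⟩ = s := by
  have hsV := h.mem_open V.isOpen hs₀
  have e : Spec.map (S.presheaf.germ V s hsV ≫ S.residue s) ≫ hV.fromSpec = S.fromSpecResidueField s := by
    rw [Spec.map_comp, Category.assoc, Scheme.fromSpecResidueField, ← hV.fromSpecStalk_eq_fromSpecStalk hsV]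
    rfl
  have := congrArg (fun g => g (IsLocalRing.closedPoint (S.residueField s))) e
  simp only [Scheme.Hom.comp_apply, Scheme.fromSpecResidueField_apply] at this
  refine Eq.trans (congrArg hV.fromSpec ?_) this
  apply PrimeSpectrum.ext
  show RingHom.ker _ = Ideal.comap _ (IsLocalRing.maximalIdeal (S.residueField s))
  rw [IsLocalRing.maximalIdeal_eq_bot]
  rfl

variable [Algebra Γ(S, V) Γ(Y, U)] (halg : algebraMap Γ(S, V) Γ(Y, U) = (f.appLE V U hUV).hom)

include ha hV halg in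
theorem chi_ev {s : S} (h : s ⤳ s₀) (i : Idx a U s₀) (x : Γ(S, V)) :
    (chi h).hom ((ev a hU i).hom (algebraMap Γ(S, V) Γ(Y, U) x)) = alpha hs₀ h x := by
  have := congrArg (fun g => (g ≫ chi h).hom x) (appLE_ev f a ha hV hU hUV hs₀ i)
  rw [halg]
  rw [germ_chi hs₀ h] at this
  exact this

include ha hV halg hs₀ in
theorem dim_piece {s : S} (h : s ⤳ s₀) :
    topologicalKrullDim ↥(f.base ⁻¹' {s} ∩ closure (Set.range fun i : Idx a U s₀ => (a i.1).base s) ∩ (U : Set Y)) =
      ringKrullDim (funs (fun i => (ev a hU i).hom) (chi h).hom) := by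
  obtain ⟨j, hj, hjr⟩ := exists_homeo (fun i => (ev a hU i).hom) (chi h).hom (alpha hs₀ h)
    (fun i x => chi_ev f a ha hV hU hUV hs₀ halg h i x) (frac hV hs₀ h)
  rw [← PrimeSpectrum.topologicalKrullDim_eq_ringKrullDim]
  refine Groth.L22.SchemeDim.topologicalKrullDim_eq_of_isEmbedding (hU.fromSpec.isOpenEmbedding.isEmbedding.comp hj) ?_
  rw [Set.range_comp, hjr]
  let pts : Idx a U s₀ → PrimeSpectrum Γ(Y, U) := fun i =>
    ⟨RingHom.ker ((chi h).hom.comp (ev a hU i).hom), RingHom.ker_isPrime _⟩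
  have hpts : ∀ i, hU.fromSpec (pts i) = (a i.1).base s := fun i => by
    have e : Spec.map (ev a hU i ≫ chi h) ≫ hU.fromSpec = S.fromSpecResidueField s ≫ a i.1 := by
      rw [Spec.map_comp, Category.assoc, specMap_ev, ← Category.assoc, specMap_chi]
    have := congrArg (fun g => g (IsLocalRing.closedPoint (S.residueField s))) e
    simp only [Scheme.Hom.comp_apply, Scheme.fromSpecResidueField_apply] at this
    refine Eq.trans (congrArg hU.fromSpec ?_) this
    apply PrimeSpectrum.ext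
    show RingHom.ker _ = Ideal.comap _ (IsLocalRing.maximalIdeal (S.residueField s))
    rw [IsLocalRing.maximalIdeal_eq_bot]
    rfl
  have hker : RingHom.ker (values (fun i => (ev a hU i).hom) (chi h).hom) = PrimeSpectrum.vanishingIdeal (Set.range pts) := by
    ext b
    rw [RingHom.mem_ker, PrimeSpectrum.mem_vanishingIdeal]
    constructor
    · rintro hb _ ⟨i, rfl⟩
      exact congrFun hb i
    · intro hb
      funext i
      exact hb _ ⟨i, rfl⟩
  have hcl : {P : PrimeSpectrum Γ(Y, U) | RingHom.ker (values (fun i => (ev a hU i).hom) (chi h).hom) ≤ P.asIdeal} =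
      closure (Set.range pts) := by
    rw [← PrimeSpectrum.zeroLocus_vanishingIdeal_eq_closure, hker]
    ext P
    rfl
  have hf : ∀ P : PrimeSpectrum Γ(Y, U),
      P.asIdeal.comap (algebraMap Γ(S, V) Γ(Y, U)) = RingHom.ker (alpha hs₀ h) ↔ f (hU.fromSpec P) = s := by
    intro P
    rw [← Scheme.Hom.comp_apply, ← IsAffineOpen.SpecMap_appLE_fromSpec f hV hU hUV, Scheme.Hom.comp_apply, halg]
    constructor
    · intro hP
      refine Eq.trans (congrArg hV.fromSpec ?_) (fromSpec_ker_alpha hV hs₀ h)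
      exact PrimeSpectrum.ext hP
    · intro hP
      have := hV.fromSpec.isOpenEmbedding.injective (hP.trans (fromSpec_ker_alpha hV hs₀ h).symm)
      exact congrArg PrimeSpectrum.asIdeal this
  have he := hU.fromSpec.isOpenEmbedding
  have hsub : hU.fromSpec ⁻¹' closure (Set.range fun i : Idx a U s₀ => (a i.1).base s) = closure (Set.range pts) := by
    rw [he.isOpenMap.preimage_closure_eq_closure_preimage he.continuous]
    congr 1
    ext P
    constructor
    · rintro ⟨i, hi⟩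
      exact ⟨i, he.injective ((hpts i).trans hi)⟩
    · rintro ⟨i, rfl⟩
      exact ⟨i, (hpts i).symm⟩
  ext y
  constructor
  · rintro ⟨P, ⟨hP1, hP2⟩, rfl⟩
    refine ⟨⟨(hf P).1 hP2, ?_⟩, hU.range_fromSpec.le ⟨P, rfl⟩⟩
    have : P ∈ closure (Set.range pts) := hcl.le hP1
    rw [← hsub] at this
    exact this
  · rintro ⟨⟨hy1, hy2⟩, hy3⟩
    obtain ⟨P, rfl⟩ := hU.range_fromSpec.ge hy3
    exact ⟨P, ⟨hcl.ge (hsub.le hy2), (hf P).2 hy1⟩, rfl⟩

theorem dim_le_of_cover {X : Type*} [TopologicalSpace X] (D : Set X) (b : WithBot ℕ∞)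
    (h : ∀ x ∈ D, ∃ U : Set X, IsOpen U ∧ x ∈ U ∧ topologicalKrullDim ↥(D ∩ U) ≤ b) :
    topologicalKrullDim ↥D ≤ b := by
  choose U hU hxU hd using fun x : D => h x.1 x.2
  rw [Groth.L06.Dim.eq_iSup (X := D) (fun x : D => (Subtype.val ⁻¹' U x : Set D)) fun p => by
    obtain ⟨x, hx⟩ := p.head.isIrreducible.nonempty
    exact ⟨x, Groth.L06.Dim.length_le_of_head_inter p ((hU x).preimage continuous_subtype_val) ⟨x, hx, hxU x⟩⟩]
  refine iSup_le fun x => ?_
  have e := Groth.L22.SchemeDim.topologicalKrullDim_eq_of_isEmbedding (S := D ∩ U x)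
    ((Topology.IsEmbedding.subtypeVal (p := fun y => y ∈ D)).comp
      (Topology.IsEmbedding.subtypeVal (p := fun y : D => y ∈ (Subtype.val ⁻¹' U x : Set D))))
    (by rw [Set.range_comp, Subtype.range_coe_subtype]; exact Subtype.image_preimage_coe D (U x))
  exact e.symm.le.trans (hd x)

include ha in
theorem dim_le [LocallyOfFiniteType f] {s₁ : S} (h : s₁ ⤳ s₀) :
    topologicalKrullDim ↥(f.base ⁻¹' {s₀} ∩ closure (Set.range fun i => (a i).base s₀)) ≤
      topologicalKrullDim ↥(f.base ⁻¹' {s₁} ∩ closure (Set.range fun i => (a i).base s₁)) := by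
  refine dim_le_of_cover _ _ fun y hy => ?_
  obtain ⟨V, hV, hs₀, -⟩ := exists_isAffineOpen_mem_and_subset (X := S) (x := s₀) (U := ⊤) trivial
  obtain ⟨U, hU, hyU, hUV⟩ := exists_isAffineOpen_mem_and_subset (X := Y) (x := y) (U := f ⁻¹ᵁ V)
    (show f y ∈ V from (show f y = s₀ from hy.1) ▸ hs₀)
  refine ⟨(U : Set Y), U.isOpen, hyU, ?_⟩
  letI : Algebra Γ(S, V) Γ(Y, U) := (f.appLE V U hUV).hom.toAlgebra
  haveI : Algebra.FiniteType Γ(S, V) Γ(Y, U) := f.finiteType_appLE hV hU hUV
  have halg : algebraMap Γ(S, V) Γ(Y, U) = (f.appLE V U hUV).hom := rfl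
  haveI := finiteType_funs (fun i : Idx a U s₀ => (ev a hU i).hom) (chi (specializes_refl s₀)).hom
    (alpha hs₀ (specializes_refl s₀)) (fun i x => chi_ev f a ha hV hU hUV hs₀ halg (specializes_refl s₀) i x)
  haveI := finiteType_funs (fun i : Idx a U s₀ => (ev a hU i).hom) (chi h).hom (alpha hs₀ h)
    (fun i x => chi_ev f a ha hV hU hUV hs₀ halg h i x)
  have key := ringKrullDim_funs_le (fun i : Idx a U s₀ => (ev a hU i).hom) (chi (specializes_refl s₀)).hom
    surjective_chi (chi h).hom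
  rw [← dim_piece f a ha hV hU hUV hs₀ halg (specializes_refl s₀), ← dim_piece f a ha hV hU hUV hs₀ halg h] at key
  refine le_trans (Groth.L22.SchemeDim.topologicalKrullDim_mono ?_) (key.trans (Groth.L22.SchemeDim.topologicalKrullDim_mono ?_))
  · rintro z ⟨⟨hz1, hz2⟩, hz3⟩
    refine ⟨⟨hz1, ?_⟩, hz3⟩
    rw [mem_closure_iff] at hz2 ⊢
    intro o ho hzo
    obtain ⟨_, ⟨h1, h2⟩, i, rfl⟩ := hz2 (o ∩ U) (ho.inter U.isOpen) ⟨hzo, hz3⟩
    exact ⟨_, h1, ⟨i, h2⟩, rfl⟩
  · rintro z ⟨⟨hz1, hz2⟩, -⟩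
    refine ⟨hz1, closure_mono ?_ hz2⟩
    rintro _ ⟨i, rfl⟩
    exact ⟨i.1, rfl⟩

end Groth.L02.SecDim
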